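import Cfsg.Agent.Lib.L7.Bas

/-!
# J4T (S3321): definitions (helper75). See `blueprint/J4T/README.md`.

`V4 = F₄²` with coordinates `(a₀ + a₁ω, b₀ + b₁ω)`, `SL = ΣL₂(4) ≅ S₅` and `GL = GL₃(2)` as explicit lists of matrices,
`W = V4 ⊗ V3 = L / Z`. Finite facts are proved by `decide +kernel` (quantify `∀ s ∈ SL`, `∀ g ∈ GL`, `∀ n : V4`).
-/

set_option autoImplicit false

namespace H75.JT

open Subgroup Matrix Cfsg H75.L7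

abbrev V3 : Type := Fin 3 → F2
abbrev V4 : Type := Fin 4 → F2
abbrev M3 : Type := Matrix (Fin 3) (Fin 3) F2
abbrev M4 : Type := Matrix (Fin 4) (Fin 4) F2
abbrev W : Type := Fin 3 → V4

def m4 (c : ℕ) : M4 := fun i j => if c.testBit (4 * i + j) then 1 else 0
def m3 (c : ℕ) : M3 := fun i j => if c.testBit (3 * i + j) then 1 else 0
def bits (l : List F2) : ℕ := l.foldr (fun b n => b.val + 2 * n) 0
/-- the code of a matrix; `m4 (c4 s) = s` is a normal form that keeps `decide +kernel` fast on nested products -/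
def c4 (s : M4) : ℕ := bits [s 0 0, s 0 1, s 0 2, s 0 3, s 1 0, s 1 1, s 1 2, s 1 3, s 2 0, s 2 1, s 2 2, s 2 3,
  s 3 0, s 3 1, s 3 2, s 3 3]
def c3 (s : M3) : ℕ := bits [s 0 0, s 0 1, s 0 2, s 1 0, s 1 1, s 1 2, s 2 0, s 2 1, s 2 2]

def SC : List ℕ := [
  33825, 19506, 33957, 8580, 35875, 51219, 19706, 5064, 50194, 19582, 8613, 36015, 12876, 42372, 9100, 18481, 51295, 51351,
  5114, 50266, 24520, 12616, 51419, 19638, 5083, 50390, 12926, 42273, 9135, 18553, 64076, 4804, 32332, 44940, 18677, 34025,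
  12895, 33901, 12909, 18621, 8599, 24370, 12634, 36071, 59780, 62792, 5097, 50334, 24471, 12665, 64182, 4822, 32306, 44835,
  38856, 64019, 23236, 56264, 46668, 56083, 54980, 31048, 4853, 8630, 35947, 64233, 4839, 42459, 9149, 59667, 62738, 28036,
  46625, 27532, 40644, 24429, 12651, 59757, 62909, 38751, 23198, 46842, 54802, 31025, 27954, 48456, 38689, 23089, 59276, 9118,
  42366, 38838, 23147, 32421, 44921, 27999, 27441, 40483, 59898, 62951, 28137, 46743, 27623, 40538, 48629, 59243, 59154, 56229,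
  48419, 45014, 32475, 56190, 48542, 59381, 54959, 31190, 27482, 40637, 31151, 54905]

def GC : List ℕ := [
  84, 340, 212, 468, 116, 372, 244, 500, 140, 396, 204, 460, 172, 428, 236, 492, 156, 412, 92, 348, 188, 444, 124, 380,
  98, 354, 226, 482, 114, 370, 242, 498, 266, 394, 330, 458, 298, 426, 106, 234, 282, 410, 346, 474, 314, 442, 122, 250,
  102, 358, 230, 486, 86, 342, 214, 470, 270, 142, 334, 206, 302, 174, 110, 494, 286, 158, 94, 478, 318, 190, 382, 254,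
  161, 417, 225, 481, 273, 401, 337, 465, 305, 177, 369, 241, 169, 425, 233, 489, 281, 409, 345, 473, 313, 185, 377, 249,
  165, 421, 229, 485, 277, 405, 85, 213, 309, 181, 117, 501, 141, 397, 205, 461, 285, 157, 93, 477, 317, 445, 125, 253,
  163, 419, 99, 355, 275, 403, 339, 467, 307, 179, 115, 499, 267, 395, 331, 459, 299, 171, 107, 491, 187, 443, 123, 379,
  167, 423, 103, 359, 279, 407, 87, 215, 311, 183, 375, 247, 271, 143, 335, 207, 303, 431, 111, 239, 159, 415, 95, 351]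

def SW : List (List (Fin 4)) := [
  [], [0], [1], [2], [3], [0, 0], [0, 1],
  [0, 2], [0, 3], [1, 0], [1, 2], [1, 3], [2, 0], [2, 1],
  [2, 3], [3, 0], [0, 0, 1], [0, 1, 0], [0, 1, 2], [0, 1, 3], [0, 2, 1],
  [0, 2, 3], [1, 0, 0], [1, 0, 1], [1, 0, 2], [1, 0, 3], [1, 2, 0], [1, 2, 1],
  [1, 2, 3], [1, 3, 0], [2, 0, 1], [2, 0, 3], [2, 1, 0], [2, 1, 3], [3, 0, 1],
  [0, 0, 1, 0], [0, 0, 1, 2], [0, 1, 0, 0], [0, 1, 0, 2], [0, 1, 0, 3], [0, 1, 2, 0], [0, 1, 2, 1],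
  [0, 1, 2, 3], [0, 1, 3, 0], [0, 2, 1, 0], [0, 2, 1, 3], [1, 0, 1, 2], [1, 0, 1, 3], [1, 0, 2, 1],
  [1, 0, 2, 3], [1, 2, 0, 1], [1, 2, 0, 3], [1, 2, 1, 0], [1, 2, 1, 3], [2, 0, 1, 0], [2, 0, 1, 2],
  [2, 0, 1, 3], [2, 1, 0, 0], [2, 1, 0, 1], [2, 1, 0, 2], [2, 1, 0, 3], [2, 1, 3, 0], [3, 0, 1, 2],
  [0, 0, 1, 0, 2], [0, 0, 1, 0, 3], [0, 1, 0, 2, 1], [0, 1, 0, 2, 3], [0, 1, 2, 0, 1], [0, 1, 2, 0, 3], [0, 1, 2, 1, 0],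
  [0, 1, 2, 1, 3], [0, 2, 1, 0, 1], [0, 2, 1, 0, 2], [0, 2, 1, 0, 3], [0, 2, 1, 3, 0], [1, 0, 1, 2, 1], [1, 0, 1, 2, 3],
  [1, 0, 2, 1, 0], [1, 0, 2, 1, 3], [1, 2, 0, 1, 0], [1, 2, 0, 1, 3], [1, 2, 1, 0, 1], [1, 2, 1, 0, 3], [1, 2, 1, 3, 0],
  [2, 0, 1, 0, 2], [2, 0, 1, 0, 3], [2, 0, 1, 2, 0], [2, 0, 1, 2, 3], [2, 0, 1, 3, 0], [3, 0, 1, 2, 0], [0, 0, 1, 0, 2, 1],
  [0, 1, 0, 2, 1, 0], [0, 1, 0, 2, 1, 3], [0, 1, 2, 0, 1, 0], [0, 1, 2, 0, 1, 3], [0, 1, 2, 1, 0, 1], [0, 1, 2, 1, 0, 3], [0, 1, 2, 1, 3, 0],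
  [1, 0, 1, 2, 1, 0], [1, 0, 1, 2, 1, 3], [1, 0, 2, 1, 0, 1], [1, 0, 2, 1, 0, 2], [1, 0, 2, 1, 0, 3], [1, 0, 2, 1, 3, 0], [1, 2, 0, 1, 0, 3],
  [1, 2, 0, 1, 3, 0], [2, 0, 1, 0, 2, 3], [2, 0, 1, 2, 0, 1], [2, 0, 1, 2, 0, 3], [3, 0, 1, 2, 0, 1], [0, 0, 1, 0, 2, 1, 0], [0, 1, 0, 2, 1, 0, 1],
  [0, 1, 0, 2, 1, 0, 3], [0, 1, 0, 2, 1, 3, 0], [0, 1, 2, 0, 1, 0, 3], [0, 1, 2, 0, 1, 3, 0], [1, 0, 1, 2, 1, 0, 3], [1, 0, 1, 2, 1, 3, 0], [2, 0, 1, 2, 0, 1, 3],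
  [0, 0, 1, 0, 2, 1, 0, 3]]

/-- `ΣL₂(4) ≅ S₅`, 120 matrices -/
def SL : List M4 := SC.map m4
/-- `GL₃(2)`, 168 matrices -/
def GL3 : List M3 := GC.map m3

instance (priority := high) decAllSL (p : M4 → Prop) [DecidablePred p] : Decidable (∀ s ∈ SL, p s) :=
  List.decidableBAll p SL
instance (priority := high) decExSL (p : M4 → Prop) [DecidablePred p] : Decidable (∃ s ∈ SL, p s) :=
  List.decidableBEx p SL
instance (priority := high) decAllGL (p : M3 → Prop) [DecidablePred p] : Decidable (∀ s ∈ GL3, p s) :=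
  List.decidableBAll p GL3
instance (priority := high) decExGL (p : M3 → Prop) [DecidablePred p] : Decidable (∃ s ∈ GL3, p s) :=
  List.decidableBEx p GL3

/-- `diag(ω, ω⁻¹)`, the 3-cycle `(0 1 2)` -/
def gX : M4 := m4 19506
/-- the transvection `[[1,1],[0,1]]`, `(0 1)(2 3)` -/
def gS : M4 := m4 33957
/-- the coordinate swap, `(0 1)(3 4)` -/
def gR : M4 := m4 8580
/-- the field automorphism, `(0 1)` -/
def gT : M4 := m4 35875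
/-- the scalar `ω` -/
def J : M4 := m4 51250
def gen (i : Fin 4) : M4 := ![gX, gS, gR, gT] i

/-- `Tr det` -/
def f (n m : V4) : F2 := n 0 * m 3 + n 1 * m 2 + n 1 * m 3 + (n 2 * m 1 + n 3 * m 0 + n 3 * m 1)
/-- the action of `(s, g)` on `V4 ⊗ V3` -/
def act (s : M4) (g : M3) (u : W) : W := fun i => g i 0 • s *ᵥ u 0 + g i 1 • s *ᵥ u 1 + g i 2 • s *ᵥ u 2
/-- commutator map -/
def B (u v : W) : V3 := ![f (u 1) (v 2) + f (u 2) (v 1), f (u 2) (v 0) + f (u 0) (v 2), f (u 0) (v 1) + f (u 1) (v 0)]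
/-- squaring map -/
def q (u : W) : V3 := ![f (u 1) (u 2), f (u 2) (u 0), f (u 0) (u 1)]
/-- cofactor matrix = inverse transpose: the action on `Z` -/
def cf (g : M3) : M3 := fun i j => g (i + 1) (j + 1) * g (i + 2) (j + 2) + g (i + 1) (j + 2) * g (i + 2) (j + 1)
def e2 : V3 := ![0, 0, 1]
/-- `O₂` of the stabiliser of `z` -/
def tv (a b : F2) : M3 := !![1, 0, a; 0, 1, b; 0, 0, 1]
def ω0 : M3 := !![0, 1, 0; 1, 1, 0; 0, 0, 1]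
/-- the action of `ω0` on `W` -/
def om (u : W) : W := ![u 1, u 0 + u 1, u 2]
/-- pure tensors in `W₁ = {u | u 2 = 0}` (45 vectors) -/
def PU (u : W) : Prop := u ≠ 0 ∧ ∃ (n : V4) (a b : F2), u = ![a • n, b • n, 0]
/-- vectors of `F₄`-type in `W₁` (30 vectors) -/
def FF (u : W) : Prop := u 2 = 0 ∧ u 0 ≠ 0 ∧ (u 1 = J *ᵥ u 0 ∨ u 1 = J *ᵥ (J *ᵥ u 0))

instance (u : W) : Decidable (PU u) := inferInstanceAs (Decidable (_ ∧ _))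
instance (u : W) : Decidable (FF u) := inferInstanceAs (Decidable (_ ∧ _))

theorem eqns_defs : True := by
  have := @m4.eq_1; have := @m3.eq_1; have := @bits.eq_1; have := @c4.eq_1; have := @c3.eq_1; have := @SC.eq_1; have := @GC.eq_1
  have := @SW.eq_1; have := @SL.eq_1; have := @GL3.eq_1; have := @gX.eq_1; have := @gS.eq_1; have := @gR.eq_1
  have := @gT.eq_1; have := @J.eq_1; have := @gen.eq_1; have := @f.eq_1; have := @act.eq_1; have := @B.eq_1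
  have := @q.eq_1; have := @cf.eq_1; have := @e2.eq_1; have := @tv.eq_1; have := @ω0.eq_1; have := @om.eq_1
  have := @PU.eq_1; have := @FF.eq_1
  trivial

variable {G : Type*} [Group G]

variable (G) in
/-- coordinates on `L / Z` only -/
structure Fr0 where
  K : Subgroup G
  L : Subgroup G
  Z : Subgroup G
  φ : G → W
  σ : G → M4
  θ : G → M3
  LK : L ≤ K
  ZL : Z ≤ L
  cardZ : Nat.card Z = 8
  φ_mul : ∀ l ∈ L, ∀ l' ∈ L, φ (l * l') = φ l + φ l'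
  φ_ker : ∀ l ∈ L, φ l = 0 ↔ l ∈ Z
  φ_sur : ∀ u, ∃ l ∈ L, φ l = u
  cen : ∀ c ∈ Z, ∀ l ∈ L, Commute c l
  zsq : ∀ c ∈ Z, c * c = 1
  der : Z ≤ ⁅L, L⁆
  σ_mul : ∀ k ∈ K, ∀ k' ∈ K, σ (k * k') = σ k * σ k'
  θ_mul : ∀ k ∈ K, ∀ k' ∈ K, θ (k * k') = θ k * θ k'
  σ_mem : ∀ k ∈ K, σ k ∈ SL
  θ_mem : ∀ k ∈ K, θ k ∈ GL3
  sur : ∀ s ∈ SL, ∀ g ∈ GL3, ∃ k ∈ K, σ k = s ∧ θ k = g
  ker : ∀ k ∈ K, k ∈ L ↔ σ k = 1 ∧ θ k = 1
  φ_conj : ∀ k ∈ K, ∀ l ∈ L, φ (k * l * k⁻¹) = act (σ k) (θ k) (φ l)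
  cz : ∀ k ∈ K, θ k = 1 → ∀ c ∈ Z, Commute k c
  nm : ∀ g, g ∈ K ↔ Nm g Z

variable (G) in
/-- coordinates on `L` -/
structure Fr where
  K : Subgroup G
  L : Subgroup G
  φ : G → W
  ζ : V3 → G
  σ : G → M4
  θ : G → M3
  LK : L ≤ K
  ζ_add : ∀ c d, ζ (c + d) = ζ c * ζ d
  ζ_inj : ∀ c, ζ c = 1 → c = 0
  ζ_mem : ∀ c, ζ c ∈ L
  φ_mul : ∀ l ∈ L, ∀ l' ∈ L, φ (l * l') = φ l + φ l'
  φ_ker : ∀ l ∈ L, φ l = 0 ↔ ∃ c, l = ζ c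
  φ_sur : ∀ u, ∃ l ∈ L, φ l = u
  sq : ∀ l ∈ L, l * l = ζ (q (φ l))
  comm : ∀ l ∈ L, ∀ l' ∈ L, l * l' = l' * l * ζ (B (φ l) (φ l'))
  σ_mul : ∀ k ∈ K, ∀ k' ∈ K, σ (k * k') = σ k * σ k'
  θ_mul : ∀ k ∈ K, ∀ k' ∈ K, θ (k * k') = θ k * θ k'
  σ_mem : ∀ k ∈ K, σ k ∈ SL
  θ_mem : ∀ k ∈ K, θ k ∈ GL3
  sur : ∀ s ∈ SL, ∀ g ∈ GL3, ∃ k ∈ K, σ k = s ∧ θ k = g
  ker : ∀ k ∈ K, k ∈ L ↔ σ k = 1 ∧ θ k = 1
  φ_conj : ∀ k ∈ K, ∀ l ∈ L, φ (k * l * k⁻¹) = act (σ k) (θ k) (φ l)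
  ζ_conj : ∀ k ∈ K, ∀ c, k * ζ c * k⁻¹ = ζ (cf (θ k) *ᵥ c)
  nm : ∀ g, (∀ c, ∃ d, g * ζ c * g⁻¹ = ζ d) → g ∈ K

namespace Fr

variable (F : Fr G)

/-- the 2-central involution -/
def z : G := F.ζ e2
/-- `O₂(C(z))` -/
def Q : Subgroup G := T (zpowers F.z)
/-- membership in `H = C(z)` -/
def H (h : G) : Prop := Commute h F.z
/-- congruence modulo `z` -/
def Cz (x y : G) : Prop := x = y ∨ x = y * F.z
/-- membership in `R = L Q = O₂(K ∩ H)` -/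
def R (r : G) : Prop := r ∈ F.K ∧ F.σ r = 1 ∧ ∃ a b, F.θ r = tv a b
/-- `c` is not in `⟨e2⟩` -/
def Out (c : V3) : Prop := c ≠ 0 ∧ c ≠ e2

/-- the structure of `Q` -/
structure QS : Prop where
  QR : ∀ x ∈ F.Q, F.R x
  QL : ∀ l ∈ F.L, l ∈ F.Q ↔ F.φ l 2 = 0
  Qs : ∀ a b, ∃ x ∈ F.Q, F.θ x = tv a b
  cm : ∀ x ∈ F.Q, ∀ y ∈ F.Q, F.Cz (x * y) (y * x)
  sq : ∀ x ∈ F.Q, F.Cz (x * x) 1
  sc : ∀ h, F.H h → (∀ x ∈ F.Q, F.Cz (h * x * h⁻¹) x) → h ∈ F.Q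

/-- the block `h Z h⁻¹` is a neighbour of `Z` -/
def Nb (h : G) : Prop := F.H h ∧ h ∉ F.K ∧ ∀ c, h * F.ζ c * h⁻¹ ∈ F.L
/-- the block `h Z h⁻¹` is opposite to `Z` -/
def Op (h : G) : Prop := F.H h ∧ ∀ c, Out c → h * F.ζ c * h⁻¹ ∉ F.L
/-- the neighbour `h Z h⁻¹` lies over `{0, v, om v, om² v}` -/
def Ov (h : G) (v : W) : Prop :=
  F.Nb h ∧ ∀ u, (∃ c, F.φ (h * F.ζ c * h⁻¹) = u) ↔ u = 0 ∨ u = v ∨ u = om v ∨ u = om (om v)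
/-- the union of the blocks minus `⟨z⟩`, the class `ζ(e0)^H` -/
def O : Set G := {b | ∃ h c, F.H h ∧ Out c ∧ b = h * F.ζ c * h⁻¹}

end Fr

variable (G) in
/-- the standing situation when `C(z) ≰ K` -/
structure St extends Fr G where
  /-- the element of order 3 generating `O_{2,3}(H)` over `Q` -/
  ω : G
  /-- the map `R → R / Q = V4` -/
  κ : G → V4
  ch : Ch2 G
  qs : toFr.QS
  hH : ∃ h, toFr.H h ∧ h ∉ K
  /-- Lemma S -/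
  ls : ∀ g, (∀ l ∈ L, g * l * g⁻¹ ∈ K) → (∀ l ∈ L, g⁻¹ * l * g ∈ K) → g ∈ K
  /-- blocks are disjoint outside `⟨z⟩` -/
  bl : ∀ h c d, toFr.H h → Fr.Out c → h * ζ c * h⁻¹ = ζ d → h ∈ K
  ωK : ω ∈ K
  ω3 : ω ^ 3 = 1
  ωσ : σ ω = 1
  ωθ : θ ω = ω0
  κ_mul : ∀ r r', toFr.R r → toFr.R r' → κ (r * r') = κ r + κ r'
  κ_L : ∀ l ∈ L, κ l = φ l 2
  κ_ker : ∀ r, toFr.R r → (κ r = 0 ↔ r ∈ toFr.Q)
  κ_conj : ∀ k ∈ K, toFr.H k → ∀ r, toFr.R r → κ (k * r * k⁻¹) = σ k *ᵥ κ r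

namespace St

variable (S : St G)

/-- `h` normalises `Q⟨ω⟩` -/
def N3 (h : G) : Prop := ∃ x ∈ S.Q, h * S.ω * h⁻¹ = x * S.ω ∨ h * S.ω * h⁻¹ = x * S.ω⁻¹
/-- the fibres of `φ` on `O ∩ L` -/
structure Fib : Prop where
  ty : ∀ b ∈ S.O, b ∈ S.L → S.φ b = 0 ∨ PU (S.φ b) ∨ FF (S.φ b)
  ff : ∀ l ∈ S.L, FF (S.φ l) → l ∈ S.O
  pu : ∀ v, PU v → {b | b ∈ S.O ∧ b ∈ S.L ∧ S.φ b = v}.ncard = 4

end St

theorem eqns_fr : True := by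
  have := @Fr.z.eq_1.{0}; have := @Fr.Q.eq_1.{0}; have := @Fr.H.eq_1.{0}; have := @Fr.Cz.eq_1.{0}
  have := @Fr.R.eq_1.{0}; have := @Fr.Out.eq_1; have := @Fr.Nb.eq_1.{0}; have := @Fr.Op.eq_1.{0}
  have := @Fr.Ov.eq_1.{0}; have := @Fr.O.eq_1.{0}; have := @St.N3.eq_1.{0}
  trivial

end H75.JT
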