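import Cfsg.Agent.Lib.J4T.CM
import Cfsg.Agent.Lib.J4L.Three
import Cfsg.Agent.Lib.J4L.Exists
import Cfsg.Agent.Lib.J4L.Cent
import Cfsg.Agent.Lib.Ord.M22D
import Cfsg.Agent.Lib.Core.CoprimeNorm

/-! J4T package FIN: see blueprint/J4T/README.md -/

set_option autoImplicit false

namespace H75.JT

open Subgroup Matrix H75.L7 H75.JT.Fr

section
open Cfsg H15 H75.J4

theorem fin_pi {H : Type*} [Group H] [Finite H] (N M : Subgroup H) [N.Normal] [M.Normal] (hNM : N ≤ M)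
    (hM : M.index = 2) (hout : ∀ c : H, (∀ m ∈ M, c * m * c⁻¹ * m⁻¹ ∈ N) → c ∈ M)
    (hM22 : Spor.IsoM22 (M ⧸ N.subgroupOf M)) :
    ∃ π : H →* Equiv.Perm GolayPt, π.ker = N ∧ π.range = M22ext := by
  obtain ⟨e⟩ := hM22
  let c : H →* MulAut (M ⧸ N.subgroupOf M) := H2.quotAut MulAut.conjNormal _ fun a x hx =>
    Normal.conj_mem inferInstance (H := N) _ hx a
  let f : M →* Equiv.Perm GolayPt :=
    Spor.M22.subtype.comp (e.toMonoidHom.comp (QuotientGroup.mk' _))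
  have fm : ∀ m, f m ∈ Spor.M22 := fun m => (e m).2
  have fs : ∀ y ∈ Spor.M22, ∃ m, f m = y := fun y hy => by
    obtain ⟨a, ha⟩ := e.surjective ⟨y, hy⟩
    obtain ⟨m, rfl⟩ := QuotientGroup.mk_surjective a
    exact ⟨m, congrArg Subtype.val ha⟩
  have fk : ∀ m : M, f m = 1 ↔ (m : H) ∈ N := fun m =>
    ((OneMemClass.coe_eq_one (x := e m)).trans (MulEquiv.map_eq_one_iff _)).trans
      (QuotientGroup.eq_one_iff _)
  have ex : ∀ h : H, ∃ s ∈ M22ext, ∀ m : M, f (MulAut.conjNormal h m) = s * f m * s⁻¹ := fun h => by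
    obtain ⟨s, hs, h1⟩ := aut_M22 ((e.symm.trans (c h)).trans e)
    refine ⟨s, hs, fun m => Eq.trans ?_ (h1 (e m))⟩
    rw [MulEquiv.trans_apply, MulEquiv.trans_apply, e.symm_apply_apply]
    rfl
  have uq : ∀ s ∈ M22ext, ∀ s' ∈ M22ext, (∀ m : M, s * f m * s⁻¹ = s' * f m * s'⁻¹) → s = s' :=
    fun s hs s' hs' h => by
      have h1 : ∀ y ∈ Spor.M22, s'⁻¹ * s * y = y * (s'⁻¹ * s) := fun y hy => by
        obtain ⟨m, rfl⟩ := fs y hy
        rw [mul_assoc, mul_inv_eq_iff_eq_mul.1 (h m)]; group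
      exact (inv_mul_eq_one.1 (eq_one_of_comm_beta_delta (M22ext_le_M24 (mul_mem (inv_mem hs') hs))
        (h1 _ (good_M22 inM24_betaC (by decide +kernel) (by decide +kernel)).2)
        (h1 _ (good_M22 inM24_deltaC (by decide +kernel) (by decide +kernel)).2))).symm
  choose p pm hp using ex
  let π : H →* Equiv.Perm GolayPt := MonoidHom.mk' p fun a b =>
    uq _ (pm _) _ (mul_mem (pm a) (pm b)) fun m => by
      rw [← hp, map_mul, MulAut.mul_apply, hp, hp]; group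
  have pM : ∀ m : M, π m = f m := fun m => uq _ (pm _) _ (M22_le_ext (fm m)) fun x => by
    rw [← hp, ← map_inv, ← map_mul, ← map_mul]; rfl
  have k1 : ∀ h, π h = 1 → h ∈ M := fun h hh => hout h fun m hm => by
    have := hp h ⟨m, hm⟩
    rw [show p h = 1 from hh, one_mul, inv_one, mul_one, ← mul_inv_eq_one, ← map_inv, ← map_mul,
      fk] at this
    exact this
  have hker : π.ker = N := by
    ext h
    exact ⟨fun hh => (fk ⟨h, k1 h hh⟩).1 ((pM ⟨h, k1 h hh⟩).symm.trans hh),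
      fun hh => (pM ⟨h, hNM hh⟩).trans ((fk ⟨h, hNM hh⟩).2 hh)⟩
  refine ⟨π, hker, eq_of_le_of_card_ge (by rintro _ ⟨h, rfl⟩; exact pm h) ?_⟩
  have h1 := relIndex_mul_index hNM
  rw [hM, relIndex, index_eq_card, Nat.card_congr e.toEquiv, card_M22, ← hker, index_ker] at h1
  rw [← h1, card_M22ext]

theorem fin_core {G : Type*} [Group G] [Finite G] [IsSimpleGroup G] {z ω : G} {Q N : Subgroup G}
    (eQ : twoCoreOfCentralizer z = Q) (es : H95.ES Q z) (hc : Nat.card Q = 2 ^ 13)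
    (hcent : ∀ g, (∀ x ∈ Q, Commute g x) → g ∈ Q) (hQN : Q ≤ N) (hNH : N ≤ centralizer ({z} : Set G))
    (hN : Nat.card N = 3 * 2 ^ 13) (nN : centralizer ({z} : Set G) ≤ normalizer (N : Set G))
    (π : centralizer ({z} : Set G) →* Equiv.Perm GolayPt) (hker : π.ker = N.subgroupOf _)
    (hr : π.range = M22ext) (hω : orderOf ω = 3) (ωN : ω ∈ N)
    (hfix : ∀ x ∈ Q, Commute x ω → x = 1 ∨ x = z) : IsOfJankoFourType G := by
  have hQH := hQN.trans hNH
  obtain ⟨e2⟩ := MM.M22ext_equiv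
  obtain ⟨m, mz, mω⟩ := H31.J4X.exists_Md_of_HD (z' := ⟨z, hQH es.mem⟩) (ω := ⟨ω, hNH ωN⟩) rfl
    (Q := Q.subgroupOf _) (π := π)
    ⟨es.subgroupOf hQH, by
      rw [← eQ, twoCoreOfCentralizer, subgroupOf, comap_map_eq_self_of_injective (subtype_injective _)]
      infer_instance, fun g hg => by
      have h1 : ∀ x ∈ Q, x * g = g * x := fun x hx => congrArg Subtype.val (hg ⟨x, hQH hx⟩ hx)
      exact (es.nondeg g (hcent g fun x hx => (h1 x hx).symm) fun y hy => (h1 y hy).symm).imp Subtype.ext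
        Subtype.ext, by rw [Nat.card_congr (subgroupOfEquivOfLe hQH).toEquiv, hc],
      by rw [← orderOf_coe]; exact hω, hr, by rw [hker]; exact fun x hx => hQN hx,
      by rw [← MonoidHom.mem_ker, hker]; exact ωN,
      by rw [hker, Nat.card_congr (subgroupOfEquivOfLe hNH).toEquiv, hN],
      fun x hx c => (hfix x hx (congrArg Subtype.val c)).imp Subtype.ext Subtype.ext⟩
  have nn : (N.subgroupOf (centralizer {z})).Normal := hker ▸ π.normal_ker
  have ωz : Commute ω z := mem_cent.1 (hNH ωN)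
  refine ⟨z, zpowers ω, orderOf_eq_prime (by rw [pow_two, es.sq]) es.ne_one, eQ ▸ es.isExtraspecial, eQ ▸ hc,
    fun a ha => ?_, ⟨N, eQ ▸ hQN, hNH, nN, by rw [eQ, hN, hc], ⟨nn, ⟨((QuotientGroup.quotientMulEquivOfEq hker.symm).trans
      ((QuotientGroup.quotientKerEquivRange π).trans (MulEquiv.subgroupCongr hr))).trans e2⟩⟩, zpowers_le.2 ωN⟩,
    by rw [Nat.card_zpowers, hω], ?_, fun e => ?_, ?_⟩
  · rw [eQ] at ha ⊢
    exact hcent a fun x hx => (ha.2 x hx).symm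
  · rw [eQ]
    refine le_antisymm (fun x hx => es.mem_zpowers.2 (hfix x hx.1 (hx.2 ω (mem_zpowers ω)).symm))
      (zpowers_le.2 ⟨es.mem, cent_zp.2 ωz.symm⟩)
  · change m.z = z at mz
    change zpowers m.ω = zpowers ω at mω
    rw [← mω, ← mz] at e
    have : m.σ ∈ centralizer {m.z} ⊓ normalizer (zpowers m.ω : Set G) := ⟨m.mem_H.2 m.σ_z, Nm.mem (by
      rintro _ ⟨k, rfl⟩
      show m.σ * m.ω ^ k * m.σ⁻¹ ∈ _
      rw [← conj_zpow, m.σ_ω]
      exact zpow_mem (inv_mem (mem_zpowers _)) k)⟩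
    rw [e] at this
    have h1 := m.σ_ω
    rw [(cent_zp.1 this.2).eq, mul_inv_cancel_right] at h1
    exact m.ω_ne_inv h1
  · change m.z = z at mz
    change zpowers m.ω = zpowers ω at mω
    rw [← mω, ← mz, Md.cent_zpowers]
    exact (zpowers_le.2 m.ω_mem_K0).trans m.perfect_K0.ge

end

theorem fin_simple {A : Type*} [Group A] {N : Subgroup A} [N.Normal] (h1 : N ≠ ⊤)
    (hs : ∀ D : Subgroup A, N ≤ D → D.Normal → D = N ∨ D = ⊤) : IsSimpleGroup (A ⧸ N) := by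
  have : Nontrivial (A ⧸ N) := QuotientGroup.nontrivial_iff.2 h1
  refine ⟨fun D hD => (hs (D.comap (QuotientGroup.mk' N)) (fun x hx => ?_) inferInstance).imp (fun e => ?_) fun e => ?_⟩
  · rw [mem_comap, (QuotientGroup.eq_one_iff x).2 hx |> fun (h : ((x : A ⧸ N)) = 1) => (show QuotientGroup.mk' N x = 1 from h)]
    exact one_mem _
  · rw [eq_bot_iff]
    intro x hx
    obtain ⟨x, rfl⟩ := QuotientGroup.mk_surjective x
    exact (QuotientGroup.eq_one_iff x).2 (e.le hx)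
  · rw [eq_top_iff]
    intro x _
    obtain ⟨x, rfl⟩ := QuotientGroup.mk_surjective x
    exact e.ge (mem_top x)

theorem fin_sw (a b : V4) (h : a ≠ 0) (e : b = J *ᵥ a ∨ b = J *ᵥ (J *ᵥ a)) :
    a ≠ b ∧ b ≠ 0 ∧ a ≠ a + b ∧ b ≠ a + b := by
  have b0 : b ≠ 0 := by
    rintro rfl
    exact e.elim (fun e => h (J_zero _ e.symm)) fun e => h (J_zero _ (J_zero _ e.symm))
  refine ⟨?_, b0, fun c => b0 (by simpa using c), fun c => h (by simpa using c)⟩
  rintro rfl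
  refine e.elim (fun e => h (J_fix _ e.symm)) fun e => h (J_zero _ ?_)
  rw [J_cube] at e
  simpa using e

variable {G : Type*} [Group G] [Finite G]

namespace St

variable {S : St G}

theorem fin_ovω {h : G} {v : W} (a : S.Ov h v) : S.Ov (S.ω * h) v := by
  refine ⟨nb_left a.1 S.ωK S.H_ω, fun u => ?_⟩
  have e : ∀ c, S.φ (S.ω * h * S.ζ c * (S.ω * h)⁻¹) = om (S.φ (h * S.ζ c * h⁻¹)) := fun c => by
    rw [φ_left a.1 S.ωK, S.ωσ, S.ωθ, act_ω0]
  have o0 : om 0 = 0 := by decide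
  simp only [e]
  constructor
  · rintro ⟨c, rfl⟩
    rcases (a.2 _).1 ⟨c, rfl⟩ with h | h | h | h <;> rw [h]
    · exact .inl o0
    · exact .inr (.inr (.inl rfl))
    · exact .inr (.inr (.inr rfl))
    · exact .inr (.inl (om_cube v))
  · intro hu
    obtain ⟨c, hc⟩ := (a.2 (om (om u))).2 (by
      rcases hu with h | h | h | h <;> rw [h]
      · exact .inl (by rw [o0, o0])
      · exact .inr (.inr (.inr rfl))
      · exact .inr (.inl (om_cube v))
      · exact .inr (.inr (.inl (by rw [om_cube]))))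
    exact ⟨c, by rw [hc, om_cube]⟩

theorem fin_ovR {h r : G} {v : W} (a : S.Ov h v) (hr : S.R r) (i : ℕ) : S.Ov (r * S.ω ^ i * h) v := by
  rw [mul_assoc]
  refine ov_left ?_ hr
  induction i with
  | zero => simpa using a
  | succ i ih => rw [pow_succ', mul_assoc]; exact fin_ovω ih

theorem fin_σX {x : G} (hx : x ∈ S.X) : S.σ x = 1 := by
  obtain ⟨y, hy, i, rfl⟩ := mem_X.1 hx
  rw [S.σ_mul _ (K_Q hy) _ (pow_mem S.ωK i), σ_Q hy, σ_pow S.ωK, S.ωσ, one_pow, one_mul]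

theorem fin_conjM (hn : ∀ h, S.H h → S.N3 h) {h m : G} (a : S.H h) (hm : m ∈ S.M) : h * m * h⁻¹ ∈ S.M := by
  obtain ⟨t, -, tH, -, -, tM, ht⟩ := S.ex_inv
  have key : ∀ g, S.H g → g ∉ S.M → ∀ g', S.H g' → g' ∉ S.M → g * g'⁻¹ ∈ S.M := fun g a b g' a' b' => by
    have := mul_mem ((ht g a (hn g a)).resolve_left b) (inv_mem ((ht g' a' (hn g' a')).resolve_left b'))
    simpa [mul_assoc] using this
  by_cases hh : h ∈ S.M
  · exact mul_mem (mul_mem hh hm) (inv_mem hh)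
  · exact key _ (a.mul (mem_M.1 hm).1) (fun e => hh ((mul_mem_cancel_right hm).1 e)) _ a hh

theorem fin_out (hn : ∀ h, S.H h → S.N3 h) (hf : ∃ h v, FF v ∧ S.Ov h v) {c : G} (a : S.H c)
    (hc : ∀ m ∈ S.M, c * m * c⁻¹ * m⁻¹ ∈ S.X) : c ∈ S.M := by
  by_contra cM
  obtain ⟨t, tK, tH, tσ, tθ, tM, ht⟩ := S.ex_inv
  have hc' : ∀ m ∈ S.M, c⁻¹ * m * c * m⁻¹ ∈ S.X := fun m hm => by
    have := inv_mem (hc _ (fin_conjM hn a.inv hm))
    simpa [mul_assoc] using this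
  have LM : ∀ l ∈ S.L, l ∈ S.M := fun l hl => mem_M_of (S.LK hl) ⟨0, 0, by rw [θ_L hl, tv_zero]⟩
  have cK : c ∈ S.K := S.ls c
    (fun l hl => by simpa using mul_mem (S.X_le_K (hc l (LM l hl))) (S.LK hl))
    fun l hl => by simpa using mul_mem (S.X_le_K (hc' l (LM l hl))) (S.LK hl)
  have cσ : S.σ c = 1 := SL_center _ (S.σ_mem c cK) fun i => by
    obtain ⟨k, hk, k1, k2⟩ := S.sur _ (gen_SL i) _ one_GL
    have h1 := hc k (mem_M_of hk ⟨0, 0, by rw [k2, tv_zero]⟩)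
    have h2 : c * k = c * k * c⁻¹ * k⁻¹ * (k * c) := by group
    have h3 := congrArg S.σ h2
    rwa [S.σ_mul _ (S.X_le_K h1) _ (mul_mem hk cK), fin_σX h1, one_mul, S.σ_mul _ cK _ hk, S.σ_mul _ hk _ cK,
      k1] at h3
  have ctM : c * t ∈ S.M := (ht c a (hn c a)).resolve_left cM
  obtain ⟨r, hr, i, e⟩ := MK_dec (mul_mem cK tK) ctM (by rw [S.σ_mul _ cK _ tK, cσ, tσ, one_mul])
  obtain ⟨h, v, hv, ov, hM⟩ : ∃ h v, FF v ∧ S.Ov h v ∧ h ∈ S.M := by
    obtain ⟨h, v, hv, ov⟩ := hf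
    rcases ht h ov.1.1 (hn h ov.1.1) with h1 | h1
    · exact ⟨h, v, hv, ov, h1⟩
    · exact ⟨_, v, hv, ov_right ov tK tH, h1⟩
  have o1 : S.Ov (c * t * h) v := e ▸ fin_ovR ov hr i
  obtain ⟨y, hy, j, e2⟩ := mem_X.1 (hc' _ (mul_mem ctM hM))
  have o2 := fin_ovR (ov_right o1 (inv_mem cK) a.inv) (R_Q hy) j
  rw [← e2, show c⁻¹ * (c * t * h) * c * (c * t * h)⁻¹ * (c * t * h * c⁻¹) = t * h by group] at o2
  obtain ⟨d, -, hd⟩ := ov_ex ov
  have h1 := (o2.2 _).1 ⟨d, rfl⟩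
  rw [φ_left ov.1 tK, hd, tσ, tθ] at h1
  obtain ⟨s1, s2, s3, s4⟩ := fin_sw _ _ hv.2.1 hv.2.2
  rcases h1 with h1 | h1 | h1 | h1
  · exact s2 (by simpa [act] using congrFun h1 0)
  · exact s1 (by simpa [act] using congrFun h1 1)
  · exact s3 (by simpa [act, om] using congrFun h1 1)
  · exact s4 (by simpa [act, om] using congrFun h1 0)

theorem fin_Q (S : St G) : Cfsg.twoCoreOfCentralizer S.z = S.Q := by
  have e : normalizer (zpowers S.z : Set G) = centralizer {S.z} := by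
    ext g
    exact ⟨fun h => mem_cent.2 (comm_of_nm_zp S.z2 (nm_of_mem h)), fun h => (nm_zp (mem_cent.1 h)).mem⟩
  rw [Fr.Q, T, e]
  rfl

theorem fin [IsSimpleGroup G] (hn : ∀ h, S.H h → S.N3 h) (c : Nat.card S.M = 2 ^ 20 * 10395)
    (hf : ∃ h v, FF v ∧ S.Ov h v)
    (hs : ∀ D : Subgroup G, S.X ≤ D → D ≤ S.M → (∀ m ∈ S.M, Nm m D) → D = S.X ∨ D = S.M) :
    Cfsg.IsOfJankoFourType G := by
  set C := centralizer ({S.z} : Set G) with hC
  have MC : S.M ≤ C := fun m hm => mem_cent.2 (mem_M.1 hm).1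
  have XC : S.X ≤ C := S.X_le_M.trans MC
  have nX : ∀ h ∈ C, Nm h S.X := fun h a => nm_X (mem_cent.1 a) (hn h (mem_cent.1 a))
  have n1 : (S.X.subgroupOf C).Normal := ⟨fun x hx g => nX g g.2 x hx⟩
  have n2 : (S.M.subgroupOf C).Normal := ⟨fun x hx g => fin_conjM hn (mem_cent.1 g.2) hx⟩
  have XM : S.X.subgroupOf C ≤ S.M.subgroupOf C := fun x hx => S.X_le_M hx
  have ix : (S.M.subgroupOf C).index = 2 := by
    obtain ⟨t, -, tH, -, -, tM, ht⟩ := S.ex_inv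
    refine index_eq_two_iff.2 ⟨⟨t, mem_cent.2 tH⟩, fun b => ?_⟩
    by_cases hb : (b : G) ∈ S.M
    · exact .inr ⟨hb, fun h => tM ((mul_mem_cancel_left hb).1 h)⟩
    · exact .inl ⟨(ht b (mem_cent.1 b.2) (hn _ (mem_cent.1 b.2))).resolve_left hb, hb⟩
  have c1 : Nat.card ((S.X.subgroupOf C).subgroupOf (S.M.subgroupOf C)) = 3 * 2 ^ 13 := by
    rw [Nat.card_congr (subgroupOfEquivOfLe XM).toEquiv, Nat.card_congr (subgroupOfEquivOfLe XC).toEquiv, card_X]
  have c2 : Nat.card (S.M.subgroupOf C) = 2 ^ 20 * 10395 := by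
    rw [Nat.card_congr (subgroupOfEquivOfLe MC).toEquiv, c]
  have c3 : Nat.card (S.M.subgroupOf C ⧸ (S.X.subgroupOf C).subgroupOf (S.M.subgroupOf C)) = 443520 := by
    have := card_eq_card_quotient_mul_card_subgroup ((S.X.subgroupOf C).subgroupOf (S.M.subgroupOf C))
    rw [c1, c2] at this
    omega
  let ι : S.M.subgroupOf C →* G := C.subtype.comp (S.M.subgroupOf C).subtype
  have ιi : Function.Injective ι := (subtype_injective _).comp (subtype_injective _)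
  have sim : IsSimpleGroup (S.M.subgroupOf C ⧸ (S.X.subgroupOf C).subgroupOf (S.M.subgroupOf C)) := by
    refine fin_simple (fun e => ?_) fun D h1 h2 => ?_
    · rw [e, card_top, c2] at c1
      omega
    · refine (hs (D.map ι) (fun x hx => ⟨⟨⟨x, XC hx⟩, S.X_le_M hx⟩, h1 hx, rfl⟩) ?_ fun m hm => ?_).imp
        (fun e => le_antisymm (fun x hx => e.le ⟨x, hx, rfl⟩) h1) fun e => eq_top_iff.2 fun x _ => ?_
      · rintro _ ⟨x, -, rfl⟩
        exact x.2
      · rintro _ ⟨x, hx, rfl⟩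
        exact ⟨_, h2.conj_mem x hx ⟨⟨m, MC hm⟩, hm⟩, rfl⟩
      · obtain ⟨y, hy, e'⟩ := e.ge (show ι x ∈ S.M from x.2)
        exact ιi e' ▸ hy
  obtain ⟨π, hker, hr⟩ := fin_pi _ _ XM ix
    (fun g hg => fin_out hn hf (mem_cent.1 g.2) fun m hm => hg ⟨m, MC hm⟩ hm) (H17.Ord.M22.isoM22 c3)
  refine fin_core S.fin_Q S.es S.card_Q (fun g => cent_Q S.ch) le_sup_left XC S.card_X (fun h a => (nX h a).mem)
    π hker hr S.ω_ord (mem_X.2 ⟨1, one_mem _, 1, by simp⟩) fun x hx h => ?_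
  simpa [Fr.Cz] using ω_fpf hx (.inl (conj_eq_of_comm h.symm))

end St

end H75.JT
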